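import Groth.Agent.CountHomLib.Basic
import Groth.Agent.KoszOrthLib.DQCoh
import Groth.Agent.KoszOrthLib.Adj
import Groth.Agent.KoszOrthLib.GammaHom
import Groth.Agent.KiehlLib.Tensor
import Groth.Agent.DCohRestrLib.MV

/-!
# The quasi-coherator and triangles
-/

set_option autoImplicit false
set_option linter.style.haveILetI false
set_option backward.isDefEq.respectTransparency false
set_option backward.isDefEq.respectTransparency.types false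
set_option maxHeartbeats 1000000

universe u

open CategoryTheory CategoryTheory.Limits AlgebraicGeometry CategoryTheory.Pretriangulated

attribute [local instance] HasDerivedCategory.standard

namespace Groth.Agent.DQBoundLib

variable {X : Scheme.{u}}

/-- `q : Q ⟶ K` is a quasi-coherator: `Q` has quasi-coherent cohomology and is universal for that. -/
structure IsDQ {Q K : DCoh.D X} (q : Q ⟶ K) : Prop where
  qcoh : DCoh.IsQCohD Q
  bij : ∀ M : DCoh.D X, DCoh.IsQCohD M → Function.Bijective fun f : M ⟶ Q => f ≫ q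

theorem exists_isDQ [CompactSpace X] [QuasiSeparatedSpace X] (K : DCoh.D X) :
    ∃ (Q : DCoh.D X) (q : Q ⟶ K), IsDQ q := by
  let ι := (DCoh.IsQCohD (X := X)).ι
  haveI : ι.IsLeftAdjoint := KoszOrthLib.isLeftAdjoint_of_DQCoh ι
  let adj := Adjunction.ofIsLeftAdjoint ι
  refine ⟨(ι.rightAdjoint.obj K).obj, adj.counit.app K, ⟨(ι.rightAdjoint.obj K).property, fun M hM => ?_⟩⟩
  let M' : DCoh.DQCoh X := ⟨M, hM⟩
  have h := (((DCoh.IsQCohD (X := X)).fullyFaithfulι.homEquiv (X := M') (Y := ι.rightAdjoint.obj K)).symm.trans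
      (adj.homEquiv M' K).symm).bijective
  convert h using 1
  funext f
  simp [Adjunction.homEquiv_counit, M']
  rfl

theorem IsDQ.iso_of_iso {Q K K' : DCoh.D X} {q : Q ⟶ K} (h : IsDQ q) (e : K ≅ K') : IsDQ (q ≫ e.hom) :=
  ⟨h.qcoh, fun M hM => by
    have := ((Iso.refl M).homCongr e).bijective.comp (h.bij M hM)
    convert this using 1
    funext f
    simp⟩

theorem IsDQ.nonempty_iso {Q Q' K : DCoh.D X} {q : Q ⟶ K} {q' : Q' ⟶ K} (h : IsDQ q) (h' : IsDQ q') :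
    Nonempty (Q ≅ Q') := by
  obtain ⟨a, ha⟩ := (h'.bij Q h.qcoh).2 q
  obtain ⟨b, hb⟩ := (h.bij Q' h'.qcoh).2 q'
  dsimp at ha hb
  exact ⟨⟨a, b, (h.bij Q h.qcoh).1 (by simp [hb, ha]), (h'.bij Q' h'.qcoh).1 (by simp [hb, ha])⟩⟩

theorem IsDQ.shift {Q K : DCoh.D X} {q : Q ⟶ K} (h : IsDQ q) (n : ℤ) : IsDQ (q⟦n⟧') := by
  refine ⟨KFlatLib.isQCohD_shift h.qcoh n, fun M hM => ?_⟩
  let e : (M⟦-n⟧)⟦n⟧ ≅ M := (shiftFunctorCompIsoId (DCoh.D X) (-n) n (by omega)).app M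
  refine ⟨fun f g hfg => ?_, fun y => ?_⟩
  · obtain ⟨f', hf'⟩ := (shiftFunctor (DCoh.D X) n).map_surjective (e.hom ≫ f)
    obtain ⟨g', hg'⟩ := (shiftFunctor (DCoh.D X) n).map_surjective (e.hom ≫ g)
    have : f' = g' := (h.bij _ (KFlatLib.isQCohD_shift hM (-n))).1 ((shiftFunctor (DCoh.D X) n).map_injective (by
      simp only [Functor.map_comp, hf', hg', Category.assoc]
      exact congrArg (e.hom ≫ ·) hfg))
    subst this
    exact (cancel_epi e.hom).1 (hf'.symm.trans hg')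
  · obtain ⟨y', hy'⟩ := (shiftFunctor (DCoh.D X) n).map_surjective (e.hom ≫ y)
    obtain ⟨f', hf'⟩ := (h.bij _ (KFlatLib.isQCohD_shift hM (-n))).2 y'
    refine ⟨e.inv ≫ f'⟦n⟧', ?_⟩
    change (e.inv ≫ f'⟦n⟧') ≫ q⟦n⟧' = y
    rw [Category.assoc, ← Functor.map_comp]
    dsimp at hf'
    rw [hf', hy', Iso.inv_hom_id_assoc]

theorem IsDQ.biprod [HasBinaryBiproducts (DCoh.D X)] {Q₁ K₁ Q₂ K₂ : DCoh.D X} {q₁ : Q₁ ⟶ K₁} {q₂ : Q₂ ⟶ K₂}
    (h₁ : IsDQ q₁) (h₂ : IsDQ q₂) : IsDQ (biprod.map q₁ q₂) := by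
  refine ⟨KFlatLib.isQCohD₂ (binaryBiproductTriangle_distinguished Q₁ Q₂) h₁.qcoh h₂.qcoh, fun M hM =>
    ⟨fun f g hfg => ?_, fun y => ?_⟩⟩
  · dsimp at hfg
    refine biprod.hom_ext _ _ ((h₁.bij M hM).1 ?_) ((h₂.bij M hM).1 ?_)
    · simpa [biprod.map_fst] using congrArg (· ≫ biprod.fst) hfg
    · simpa [biprod.map_snd] using congrArg (· ≫ biprod.snd) hfg
  · obtain ⟨f₁, hf₁⟩ := (h₁.bij M hM).2 (y ≫ biprod.fst)
    obtain ⟨f₂, hf₂⟩ := (h₂.bij M hM).2 (y ≫ biprod.snd)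
    dsimp at hf₁ hf₂
    exact ⟨biprod.lift f₁ f₂, biprod.hom_ext _ _ (by simp [hf₁]) (by simp [hf₂])⟩

/-- The fibre of a map of quasi-coherators is the quasi-coherator of the fibre. -/
theorem exists_isDQ_fibre {K B C : DCoh.D X} {a : K ⟶ B} {b : B ⟶ C} {c : C ⟶ K⟦(1 : ℤ)⟧}
    (hT : Triangle.mk a b c ∈ distTriang _) {QB QC : DCoh.D X} {qB : QB ⟶ B} {qC : QC ⟶ C}
    (hB : IsDQ qB) (hC : IsDQ qC) :
    ∃ (Q : DCoh.D X) (q : Q ⟶ K) (a' : Q ⟶ QB) (b' : QB ⟶ QC) (c' : QC ⟶ Q⟦(1 : ℤ)⟧),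
      Triangle.mk a' b' c' ∈ distTriang _ ∧ IsDQ q := by
  obtain ⟨β, hβ⟩ := (hC.bij QB hB.qcoh).2 (qB ≫ b)
  dsimp at hβ
  obtain ⟨Q, a', c', hT'⟩ := distinguished_cocone_triangle₁ β
  obtain ⟨k, hk₁, hk₂⟩ := complete_distinguished_triangle_morphism₁ _ _ hT' hT qB qC hβ
  change Q ⟶ K at k
  change a' ≫ qB = k ≫ a at hk₁
  change c' ≫ k⟦(1 : ℤ)⟧' = qC ≫ c at hk₂
  refine ⟨Q, k, a', β, c', hT', KFlatLib.isQCohD₂ (inv_rot_of_distTriang _ hT')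
    (KFlatLib.isQCohD_shift hC.qcoh (-1)) hB.qcoh, fun M hM => ?_⟩
  have hQ : DCoh.IsQCohD Q :=
    KFlatLib.isQCohD₂ (inv_rot_of_distTriang _ hT') (KFlatLib.isQCohD_shift hC.qcoh (-1)) hB.qcoh
  let δ : C⟦(-1 : ℤ)⟧ ⟶ K := (Triangle.mk a b c).invRotate.mor₁
  let δ' : QC⟦(-1 : ℤ)⟧ ⟶ Q := (Triangle.mk a' β c').invRotate.mor₁
  let φ : (Triangle.mk a' β c').invRotate ⟶ (Triangle.mk a b c).invRotate :=
    (invRotate (DCoh.D X)).map (Triangle.homMk (Triangle.mk a' β c') (Triangle.mk a b c) k qB qC hk₁ hβ hk₂)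
  have hδ : δ' ≫ k = qC⟦(-1 : ℤ)⟧' ≫ δ := φ.comm₁
  have hbij := (hC.shift (-1)).bij M hM
  refine ⟨fun f g hfg => sub_eq_zero.1 ?_, fun y => ?_⟩
  · have h0 : (f - g) ≫ k = 0 := (Preadditive.sub_comp _ _ _).trans (sub_eq_zero.2 hfg)
    have h1 : (f - g) ≫ a' = 0 := (hB.bij M hM).1 (by
      change ((f - g) ≫ a') ≫ qB = 0 ≫ qB
      rw [zero_comp, Category.assoc, hk₁, reassoc_of% h0, zero_comp])
    obtain ⟨z, hz⟩ : ∃ z, f - g = z ≫ δ' :=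
      Triangle.coyoneda_exact₂ _ (inv_rot_of_distTriang _ hT') (f - g) h1
    have h2 : (z ≫ qC⟦(-1 : ℤ)⟧') ≫ δ = 0 := by
      rw [Category.assoc, ← hδ, ← Category.assoc, ← hz, h0]
    obtain ⟨w, hw⟩ : ∃ w, z ≫ qC⟦(-1 : ℤ)⟧' = w ≫ (Triangle.mk a b c).invRotate.invRotate.mor₁ :=
      Triangle.coyoneda_exact₂ _ (inv_rot_of_distTriang _ (inv_rot_of_distTriang _ hT)) _ h2
    obtain ⟨w', hw'⟩ := ((hB.shift (-1)).bij M hM).2 w
    dsimp at hw'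
    let φ' := (invRotate (DCoh.D X)).map φ
    have h3 : (Triangle.mk a' β c').invRotate.invRotate.mor₁ ≫ qC⟦(-1 : ℤ)⟧' =
        qB⟦(-1 : ℤ)⟧' ≫ (Triangle.mk a b c).invRotate.invRotate.mor₁ := φ'.comm₁
    have h4 : z = w' ≫ (Triangle.mk a' β c').invRotate.invRotate.mor₁ := hbij.1 (by
      change z ≫ qC⟦(-1 : ℤ)⟧' = (w' ≫ _) ≫ qC⟦(-1 : ℤ)⟧'
      rw [hw, ← hw', Category.assoc, Category.assoc, h3])
    rw [hz, h4, Category.assoc]
    exact (congrArg (w' ≫ ·) (comp_distTriang_mor_zero₁₂ _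
      (inv_rot_of_distTriang _ (inv_rot_of_distTriang _ hT')))).trans comp_zero
  · obtain ⟨z, hz⟩ := (hB.bij M hM).2 (y ≫ a)
    dsimp at hz
    have hzβ : z ≫ β = 0 := (hC.bij M hM).1 (by
      change (z ≫ β) ≫ qC = 0 ≫ qC
      rw [zero_comp, Category.assoc, hβ, reassoc_of% hz]
      exact (congrArg (y ≫ ·) (comp_distTriang_mor_zero₁₂ _ hT)).trans comp_zero)
    obtain ⟨f, hf⟩ : ∃ f : M ⟶ Q, z = f ≫ a' := Triangle.coyoneda_exact₂ _ hT' z hzβ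
    have h1 : (y - f ≫ k) ≫ a = 0 := by
      rw [Preadditive.sub_comp, Category.assoc, ← hk₁, ← Category.assoc, ← hf, hz, sub_self]
    obtain ⟨g, hg⟩ : ∃ g, y - f ≫ k = g ≫ δ :=
      Triangle.coyoneda_exact₂ _ (inv_rot_of_distTriang _ hT) _ h1
    obtain ⟨g', hg'⟩ := hbij.2 g
    dsimp at hg'
    refine ⟨f + g' ≫ δ', ?_⟩
    change (f + g' ≫ δ') ≫ k = y
    rw [Preadditive.add_comp, Category.assoc, hδ, reassoc_of% hg', ← hg, add_sub_cancel]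

/-- Direct images of quasi-coherators are quasi-coherators. -/
theorem IsDQ.rpush {Y : Scheme.{u}} (j : Y ⟶ X) [IsOpenImmersion j] [QuasiCompact j] [QuasiSeparated j]
    [DCoh.HasRpush j] {Q K : DCoh.D Y} {q : Q ⟶ K} (h : IsDQ q) : IsDQ ((DCoh.Rpush j).map q) := by
  refine ⟨QRlimLib.isQCohD_rpush j h.qcoh, fun M hM => ?_⟩
  let adj := KoszOrthLib.restrictRpushAdj j
  have := ((adj.homEquiv M K).bijective.comp
    (h.bij _ (KoszOrthLib.isQCohD_restrictD j hM))).comp (adj.homEquiv M Q).symm.bijective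
  convert this using 1
  funext f
  simp only [Function.comp_apply]
  rw [adj.homEquiv_naturality_right, Equiv.apply_symm_apply]

end Groth.Agent.DQBoundLib
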