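import Groth.Agent.DQBoundLib.Basic
import Groth.Agent.CountHomLib.Main
import Groth.Agent.TildePCLib.Main

/-!
# The quasi-coherator has bounded cohomological amplitude
-/

set_option autoImplicit false
set_option linter.style.haveILetI false
set_option backward.isDefEq.respectTransparency false
set_option backward.isDefEq.respectTransparency.types false
set_option maxHeartbeats 1000000

universe u

open CategoryTheory CategoryTheory.Limits AlgebraicGeometry CategoryTheory.Pretriangulated TopologicalSpace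
open PerfHomLib (free0)

attribute [local instance] HasDerivedCategory.standard

namespace Groth.Agent.DQBoundLib

/-- Cohomology over affine opens vanishes outside `[a, b]`. -/
def AffVan (Y : Scheme.{u}) (K : DCoh.D Y) (a b : ℤ) : Prop :=
  ∀ (Z : Scheme.{u}) (g : Z ⟶ Y) [IsOpenImmersion g], IsAffine Z → ∀ i : ℤ, (i < a ∨ b < i) →
    ∀ φ : free0 (⊤ : Z.Opens) ⟶ ((DCoh.restrictD g).obj K)⟦i⟧, φ = 0

theorem AffVan.restrict {X Y : Scheme.{u}} (j : Y ⟶ X) [IsOpenImmersion j] {K : DCoh.D X} {a b : ℤ}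
    (h : AffVan X K a b) : AffVan Y ((DCoh.restrictD j).obj K) a b := fun Z g _ hZ i hi φ => by
  obtain ⟨e⟩ := PerfLib.nonempty_resD_comp g j K
  exact zero_of_comp_mono ((shiftFunctor (DCoh.D Z) i).map e.inv) (h Z (g ≫ j) hZ i hi _)

/-- There is a bound for the cohomology of quasi-coherators. -/
def Bd (Y : Scheme.{u}) : Prop :=
  ∃ N : ℕ, ∀ (K : DCoh.D Y) (a b : ℤ), AffVan Y K a b → ∀ (Q : DCoh.D Y) (q : Q ⟶ K), IsDQ q →
    ∀ i : ℤ, (i < a ∨ b + (N : ℤ) < i) → IsZero (DCoh.HD Q i)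

theorem bd_empty (Y : Scheme.{u}) [IsEmpty Y] : Bd Y :=
  ⟨0, fun _ _ _ _ Q _ _ i _ => KoszOrthLib.isZero_HD_of_isEmpty Q i⟩

theorem isQCohD_free0_top (Y : Scheme.{u}) : DCoh.IsQCohD (free0 (⊤ : Y.Opens)) :=
  KFlatLib.isQCohD_iso ((DerivedCategory.singleFunctorIsoCompQ Y.Modules 0).app _)
    (KiehlLib.isQCohD_single _
      (@QCohLib.isQCoh_of_iso _ _ _ (KFlatLib.structureIso Y).symm QCohLib.isQCoh_unit) 0)

theorem bd_affine (Y : Scheme.{u}) [IsAffine Y] : Bd Y := by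
  refine ⟨0, fun K a b hK Q q hq i hi => ?_⟩
  have hz : ∀ φ : free0 (⊤ : Y.Opens) ⟶ Q⟦i⟧, φ = 0 := fun φ => by
    obtain ⟨e⟩ := TildePCLib.nonempty_resD_id K
    refine ((hq.shift i).bij _ (isQCohD_free0_top Y)).1 ?_
    change φ ≫ q⟦i⟧' = 0 ≫ q⟦i⟧'
    rw [zero_comp]
    exact zero_of_comp_mono ((shiftFunctor (DCoh.D Y) i).map e.inv) (hK Y (𝟙 Y) ‹_› i (by simpa using hi) _)
  haveI : Subsingleton (free0 (⊤ : Y.Opens) ⟶ Q⟦i⟧) := ⟨fun f g => (hz f).trans (hz g).symm⟩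
  obtain ⟨e⟩ := CountHomLib.nonempty_free0Equiv (isAffineOpen_top Y) (KFlatLib.isQCohD_shift hq.qcoh i)
  haveI := e.symm.subsingleton
  obtain ⟨M, ⟨eM⟩⟩ := KoszOrthLib.exists_tX_iso hq.qcoh
  let N := (DerivedCategory.homologyFunctor (ModuleCat.{u} (KoszOrthLib.AX Y)) i).obj M
  let T := (tilde.functor (CommRingCat.of (KoszOrthLib.AX Y))).obj N
  let c : DCoh.HD (Q⟦i⟧) 0 ≅ (Scheme.Modules.restrictFunctor Y.isoSpec.hom).obj T :=
    ((DerivedCategory.homologyFunctor Y.Modules 0).shiftIso i 0 i (by omega)).app Q ≪≫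
      (DerivedCategory.homologyFunctor Y.Modules i).mapIso eM.symm ≪≫ KoszOrthLib.tXHIso i M
  have hsub : Subsingleton Γ(T, Y.isoSpec.hom ''ᵁ ⊤) :=
    (((KFlatLib.freeUEquiv (⊤ : Y.Opens) _).symm.trans ((Iso.refl _).homCongr c)).trans
      (KFlatLib.freeUEquiv (⊤ : Y.Opens) ((Scheme.Modules.restrictFunctor Y.isoSpec.hom).obj T))).symm.subsingleton
  rw [Scheme.Hom.image_top_eq_opensRange, Scheme.Hom.opensRange_of_isIso] at hsub
  haveI : Subsingleton N :=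
    @Equiv.subsingleton _ _ ((tilde.toTildeΓNatIso.app N).toLinearEquiv).toEquiv hsub
  refine IsZero.of_iso ?_ (((DerivedCategory.homologyFunctor Y.Modules i).mapIso eM.symm) ≪≫ KoszOrthLib.tXHIso i M)
  exact (Scheme.Modules.restrictFunctor Y.isoSpec.hom).map_isZero
    ((tilde.functor (CommRingCat.of (KoszOrthLib.AX Y))).map_isZero (ModuleCat.isZero_of_subsingleton N))

variable {X : Scheme.{u}}

theorem bd_step [CompactSpace X] [QuasiSeparatedSpace X] (U V : X.Opens) (hU : IsCompact (U : Set X))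
    (hV : IsCompact (V : Set X)) (hUV : IsCompact ((U ⊓ V : X.Opens) : Set X)) (hcov : U ⊔ V = ⊤)
    (bU : Bd (U : Scheme.{u})) (bV : Bd (V : Scheme.{u})) (bW : Bd ((U ⊓ V : X.Opens) : Scheme.{u})) : Bd X := by
  haveI : CompactSpace (U : Scheme.{u}) := isCompact_iff_compactSpace.mp hU
  haveI : CompactSpace (V : Scheme.{u}) := isCompact_iff_compactSpace.mp hV
  haveI : CompactSpace ((U ⊓ V : X.Opens) : Scheme.{u}) := isCompact_iff_compactSpace.mp hUV
  haveI : QuasiSeparatedSpace (U : Scheme.{u}) := QuasiSeparatedSpace.of_isOpenEmbedding U.ι.isOpenEmbedding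
  haveI : QuasiSeparatedSpace (V : Scheme.{u}) := QuasiSeparatedSpace.of_isOpenEmbedding V.ι.isOpenEmbedding
  haveI : QuasiSeparatedSpace ((U ⊓ V : X.Opens) : Scheme.{u}) :=
    QuasiSeparatedSpace.of_isOpenEmbedding (U ⊓ V).ι.isOpenEmbedding
  haveI : QuasiCompact U.ι := quasiCompact_of_compactSpace _
  haveI : QuasiCompact V.ι := quasiCompact_of_compactSpace _
  haveI : QuasiCompact (U ⊓ V).ι := quasiCompact_of_compactSpace _
  haveI := DCohRestrLib.hasRpush U.ι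
  haveI := DCohRestrLib.hasRpush V.ι
  haveI := DCohRestrLib.hasRpush (U ⊓ V).ι
  haveI : HasBinaryBiproducts (DCoh.D X) := HasBinaryBiproducts.of_hasBinaryProducts
  obtain ⟨nU, hnU⟩ := bU
  obtain ⟨nV, hnV⟩ := bV
  obtain ⟨nW, hnW⟩ := bW
  obtain ⟨pU, hpU⟩ := QRlimLib.exists_uniform_bound U.ι
  obtain ⟨pV, hpV⟩ := QRlimLib.exists_uniform_bound V.ι
  obtain ⟨pW, hpW⟩ := QRlimLib.exists_uniform_bound (U ⊓ V).ι
  refine ⟨nU + pU.toNat + (nV + pV.toNat) + (nW + pW.toNat + 1), fun K a b hK Q q hq i hi => ?_⟩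
  obtain ⟨QU, qU, hqU⟩ := exists_isDQ ((DCoh.restrictD U.ι).obj K)
  obtain ⟨QV, qV, hqV⟩ := exists_isDQ ((DCoh.restrictD V.ι).obj K)
  obtain ⟨QW, qW, hqW⟩ := exists_isDQ ((DCoh.restrictD (U ⊓ V).ι).obj K)
  have key : ∀ {W : X.Opens} [QuasiCompact W.ι] [DCoh.HasRpush W.ι] (n : ℕ) (p : ℤ) {QW : DCoh.D (W : Scheme.{u})},
      (∀ m : ℤ, (m < a ∨ b + (n : ℤ) < m) → IsZero (DCoh.HD QW m)) → DCoh.IsQCohD QW →
      (∀ (E : DCoh.D (W : Scheme.{u})), DCoh.IsQCohD E → ∀ c : ℤ, E.IsLE c → ∀ m : ℤ, c + p ≤ m →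
        IsZero (DCoh.HD ((DCoh.Rpush W.ι).obj E) m)) →
      ∀ m : ℤ, (m < a ∨ b + (n : ℤ) + p ≤ m) → IsZero (DCoh.HD ((DCoh.Rpush W.ι).obj QW) m) := by
    intro W _ _ n p QW hz hQ hp m hm
    rcases hm with hm | hm
    · haveI : QW.IsGE a := (DerivedCategory.isGE_iff QW a).2 fun j hj => hz j (Or.inl hj)
      haveI := QRlimLib.rpush_isGE W.ι QW a
      exact DerivedCategory.isZero_of_isGE _ a m hm
    · exact hp QW hQ (b + n) ((DerivedCategory.isLE_iff QW _).2 fun j hj => hz j (Or.inr hj)) m hm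
  have zU := key nU pU (hnU _ a b (hK.restrict U.ι) QU qU hqU) hqU.qcoh hpU
  have zV := key nV pV (hnV _ a b (hK.restrict V.ι) QV qV hqV) hqV.qcoh hpV
  have zW := key nW pW (hnW _ a b (hK.restrict (U ⊓ V).ι) QW qW hqW) hqW.qcoh hpW
  obtain ⟨T, hT, ⟨e₁⟩, ⟨e₂⟩, ⟨e₃⟩⟩ := DCohRestrLib.exists_mv_push U V hcov K
  obtain ⟨f, g, h, hT'⟩ := DCohRestrLib.exists_triangle_of_iso T hT e₁ e₂ e₃
  obtain ⟨Q', q', a', b', c', hT'', hq'⟩ :=
    exists_isDQ_fibre hT' ((hqU.rpush U.ι).biprod (hqV.rpush V.ι)) (hqW.rpush (U ⊓ V).ι)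
  obtain ⟨e⟩ := hq.nonempty_iso hq'
  refine IsZero.of_iso ?_ ((DerivedCategory.homologyFunctor X.Modules i).mapIso e)
  refine (DerivedCategory.HomologySequence.exact₁ _ hT'' (i - 1) i (by omega)).isZero_of_both_zeros
    ((zW (i - 1) (by push_cast at hi; omega)).eq_of_src _ _) ?_
  refine IsZero.eq_of_tgt ?_ _ _
  exact (DerivedCategory.HomologySequence.exact₂ _ (binaryBiproductTriangle_distinguished
    ((DCoh.Rpush U.ι).obj QU) ((DCoh.Rpush V.ι).obj QV)) i).isZero_of_both_zeros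
      ((zU i (by push_cast at hi; omega)).eq_of_src _ _) ((zV i (by push_cast at hi; omega)).eq_of_tgt _ _)

/-- The bound on every open immersion with the given range. -/
def BdR (X : Scheme.{u}) (W : X.Opens) : Prop :=
  ∀ (Y : Scheme.{u}) (j : Y ⟶ X) [IsOpenImmersion j], Set.range j = (W : Set X) → Bd Y

theorem bdR_of_isAffineOpen {W : X.Opens} (hW : IsAffineOpen W) : BdR X W := fun Y j _ hj => by
  have h : j.opensRange = W := Opens.ext hj
  haveI : IsAffine (j.opensRange : Scheme.{u}) := h ▸ hW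
  haveI : IsAffine Y := IsAffine.of_isIso j.isoOpensRange.hom
  exact bd_affine Y

theorem bdR_sup_two [QuasiSeparatedSpace X] {A B : X.Opens} (hA : IsCompact (A : Set X)) (hB : IsCompact (B : Set X))
    (bA : BdR X A) (bB : BdR X B) (bI : BdR X (A ⊓ B)) : BdR X (A ⊔ B) := by
  intro Y j _ hj
  haveI : QuasiSeparatedSpace Y := QuasiSeparatedSpace.of_isOpenEmbedding j.isOpenEmbedding
  haveI : CompactSpace Y := by
    rw [← isCompact_univ_iff, j.isOpenEmbedding.isEmbedding.isCompact_iff, Set.image_univ, hj, Opens.coe_sup]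
    exact hA.union hB
  have him : ∀ O : X.Opens, O ≤ A ⊔ B →
      (fun y : Y => j y) '' ((j ⁻¹ᵁ O : Y.Opens) : Set Y) = (O : Set X) := fun O hO => by
    rw [Scheme.Hom.coe_preimage]
    exact Set.image_preimage_eq_iff.2 (by rw [hj]; exact hO)
  have hr : ∀ O : X.Opens, O ≤ A ⊔ B → Set.range ((j ⁻¹ᵁ O).ι ≫ j) = (O : Set X) := fun O hO => by
    change Set.range ((fun y : Y => j y) ∘ (j ⁻¹ᵁ O).ι) = _
    rw [Set.range_comp, Scheme.Opens.range_ι, him O hO]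
  have hc : ∀ O : X.Opens, O ≤ A ⊔ B → IsCompact (O : Set X) → IsCompact ((j ⁻¹ᵁ O : Y.Opens) : Set Y) :=
    fun O hO h => by
      rw [j.isOpenEmbedding.isEmbedding.isCompact_iff, him O hO]
      exact h
  have hI : A ⊓ B ≤ A ⊔ B := inf_le_left.trans le_sup_left
  refine bd_step (j ⁻¹ᵁ A) (j ⁻¹ᵁ B) (hc A le_sup_left hA) (hc B le_sup_right hB) ?_ ?_
    (bA _ ((j ⁻¹ᵁ A).ι ≫ j) (hr A le_sup_left)) (bB _ ((j ⁻¹ᵁ B).ι ≫ j) (hr B le_sup_right)) ?_
  · rw [← Scheme.Hom.preimage_inf]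
    exact hc _ hI (hA.inter_of_isOpen hB A.isOpen B.isOpen)
  · rw [← Scheme.Hom.preimage_sup, eq_top_iff]
    intro y _
    change j y ∈ (A ⊔ B : X.Opens)
    exact (hj ▸ Set.mem_range_self (f := j) y :)
  · rw [← Scheme.Hom.preimage_inf]
    exact bI _ ((j ⁻¹ᵁ (A ⊓ B)).ι ≫ j) (hr _ hI)

theorem bdR_sup [QuasiSeparatedSpace X] {P : Opens X.toTopCat → Prop} (hinf : ∀ U V, P U → P V → P (U ⊓ V))
    (hc : ∀ U : Opens X.toTopCat, P U → IsCompact (U : Set X.toTopCat)) (hP : ∀ U, P U → BdR X U) :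
    ∀ (n : ℕ) (W : Fin n → Opens X.toTopCat), (∀ k, P (W k)) → BdR X (Finset.univ.sup W)
  | 0, W, _ => by
    intro Y j _ hj
    rw [show Finset.univ.sup W = (⊥ : Opens X.toTopCat) from Finset.sup_empty] at hj
    haveI : IsEmpty Y := ⟨fun y => by simpa [hj] using Set.mem_range_self (f := j) y⟩
    exact bd_empty Y
  | n + 1, W, hW => by
    let T : Opens X.toTopCat := Finset.univ.sup fun k : Fin n => W k.succ
    have hsup : Finset.univ.sup W = W 0 ⊔ T := by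
      rw [Fin.univ_succ, Finset.sup_cons, Finset.sup_map]
      rfl
    have hT : IsCompact (T : Set X.toTopCat) := by
      rw [Opens.coe_finset_sup, Finset.sup_eq_iSup]
      exact Finset.isCompact_biUnion _ fun k _ => hc _ (hW k.succ)
    have hinf' : W 0 ⊓ T = Finset.univ.sup fun k : Fin n => W 0 ⊓ W k.succ :=
      Finset.sup_inf_distrib_left _ _ _
    rw [hsup]
    refine bdR_sup_two (hc _ (hW 0)) hT (hP _ (hW 0)) (bdR_sup hinf hc hP n _ fun k => hW k.succ) ?_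
    rw [hinf']
    exact bdR_sup hinf hc hP n _ fun k => hinf _ _ (hW 0) (hW k.succ)

theorem bd_of_qcqs [CompactSpace X] [QuasiSeparatedSpace X] : Bd X := by
  suffices h : BdR X ⊤ from h X (𝟙 X) (by simp)
  choose W hW hxW hWt using fun x : X => Opens.isBasis_iff_nbhd.mp X.isBasis_affineOpens (U := ⊤) (x := x) trivial
  obtain ⟨n, f, hf⟩ := PerfHomLib.exists_fin_sup (fun x => (W x : Opens X.toTopCat)) (V := ⊤)
    (@isCompact_univ X.toTopCat _ ‹CompactSpace X›)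
    (fun x _ => Opens.mem_iSup.2 ⟨x, hxW x⟩) fun x => le_top
  rw [← hf]
  refine bdR_sup (P := fun V => IsCompact (V : Set X.toTopCat) ∧ ∃ x, V ≤ W x) ?_ (fun V h => h.1) ?_ n _
    fun k => ⟨(hW _).isCompact, _, le_rfl⟩
  · rintro A B ⟨hA, x, hx⟩ ⟨hB, -⟩
    refine ⟨?_, x, inf_le_left.trans hx⟩
    rw [Opens.coe_inf]
    exact (@IsQuasiSeparated.of_quasiSeparatedSpace X.toTopCat _ ‹QuasiSeparatedSpace X› Set.univ) _ _
      (Set.subset_univ _) A.isOpen hA (Set.subset_univ _) B.isOpen hB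
  · rintro A ⟨hA, x, hx⟩
    let I := {g : Γ(X, W x) // X.basicOpen g ≤ A}
    obtain ⟨m, k, hk⟩ := PerfHomLib.exists_fin_sup (fun g : I => (X.basicOpen g.1 : Opens X.toTopCat)) hA
      (fun y hy => by
        obtain ⟨g, hg, hyg⟩ := (hW x).exists_basicOpen_le (V := A) ⟨y, hy⟩ (hx hy)
        exact Opens.mem_iSup.2 ⟨⟨g, hg⟩, hyg⟩) fun g => g.2
    rw [← hk]
    refine bdR_sup (P := fun U => ∃ g : Γ(X, W x), U = X.basicOpen g) ?_ ?_ ?_ m _ fun l => ⟨_, rfl⟩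
    · rintro _ _ ⟨g, rfl⟩ ⟨g', rfl⟩
      exact ⟨g * g', (X.basicOpen_mul g g').symm⟩
    · rintro _ ⟨g, rfl⟩
      exact ((hW x).basicOpen g).isCompact
    · rintro _ ⟨g, rfl⟩
      exact bdR_of_isAffineOpen ((hW x).basicOpen g)

end Groth.Agent.DQBoundLib
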